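import Groth.Agent.H6FunMor.FPHom

/-!
# Functors on modules commuting with filtered colimits are extensions of their restriction to
finitely presented modules
-/

universe v' u' u

open CategoryTheory CategoryTheory.Limits Opposite

namespace Groth.Agent.H6FunMor

variable (A : Type u) [CommRing A]

instance : Fact (Cardinal.aleph0.{u}.IsRegular) := ⟨Cardinal.isRegular_aleph0⟩

/-- `Hom(A, -)` is the forgetful functor. -/
noncomputable def coyonedaUnitIso :
    forget (ModuleCat.{u} A) ≅ coyoneda.obj (op (ModuleCat.of A A)) :=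
  NatIso.ofComponents (fun M =>
    ((ModuleCat.homEquiv).trans (LinearMap.ringLmapEquivSelf A A M).toEquiv).symm.toIso)
    (fun {M N} f => by
      ext x
      apply ModuleCat.hom_ext
      apply LinearMap.ext_ring
      simp [ModuleCat.homEquiv])

theorem isPresentable_unit : IsFinitelyPresentable.{u} (ModuleCat.of A A) := by
  rw [isFinitelyPresentable_iff_preservesFilteredColimits]
  exact ⟨fun J _ _ => preservesColimitsOfShape_of_natIso (coyonedaUnitIso A)⟩

theorem isStrongGenerator_unit :
    (ObjectProperty.singleton (ModuleCat.of A A)).IsStrongGenerator := by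
  rw [ObjectProperty.isStrongGenerator_iff]
  refine ⟨fun X Y f g h => ?_, fun X Y i _ hi => ?_⟩
  · ext x
    have := h (ModuleCat.of A A) (by simp) (ModuleCat.ofHom (LinearMap.toSpanSingleton A X x))
    simpa using congrArg (fun t : ModuleCat.of A A ⟶ Y => t.hom (1 : A)) this
  · refine (ConcreteCategory.isIso_iff_bijective i).2 ⟨(ModuleCat.mono_iff_injective i).1 inferInstance, fun y => ?_⟩
    obtain ⟨f, hf⟩ := hi (ModuleCat.of A A) (by simp) (ModuleCat.ofHom (LinearMap.toSpanSingleton A Y y))
    exact ⟨f.hom (1 : A), by simpa using congrArg (fun t : ModuleCat.of A A ⟶ Y => t.hom (1 : A)) hf⟩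

/-- Finite presentation is finite presentability. -/
theorem fp_eq : fp A = isCardinalPresentable (ModuleCat.{u} A) Cardinal.aleph0.{u} := by
  have hunit : ObjectProperty.singleton (ModuleCat.of A A) ≤
      isCardinalPresentable (ModuleCat.{u} A) Cardinal.aleph0.{u} := by
    intro X hX
    obtain rfl : X = ModuleCat.of A A := by simpa [eq_comm] using hX
    exact isPresentable_unit A
  have heq := IsStrongGenerator.colimitsCardinalClosure_eq_isCardinalPresentable
    (isStrongGenerator_unit A) hunit
  refine le_antisymm (fun M hM => ?_) ?_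
  · haveI : Module.FinitePresentation A M := hM
    haveI hpi : ∀ n : ℕ, IsFinitelyPresentable.{u} (ModuleCat.of A (Fin n → A)) := fun n => by
      haveI := isClosedUnderColimitsOfShape_isCardinalPresentable.{u} (ModuleCat.{u} A)
        (κ := Cardinal.aleph0.{u}) (J := Discrete (Fin n)) (by rw [hasCardinalLT_aleph0_iff]; infer_instance)
      refine (isCardinalPresentable (ModuleCat.{u} A) Cardinal.aleph0.{u}).prop_of_iso
        ((biproduct.isoCoproduct fun _ : Fin n => ModuleCat.of A A).symm ≪≫ ModuleCat.biproductIsoPi _) ?_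
      exact ObjectProperty.prop_colimit _ _ fun j => isPresentable_unit A
    obtain ⟨n, p, hp⟩ := Module.Finite.exists_fin' A M
    obtain ⟨m, r, hr⟩ := Submodule.fg_iff_exists_fin_generating_family.1
      (Module.FinitePresentation.fg_ker p hp)
    let d : (Fin m → A) →ₗ[A] (Fin n → A) := Fintype.linearCombination A r
    have hd : LinearMap.range d = LinearMap.ker p := by
      rw [← hr]; exact Fintype.range_linearCombination A r
    haveI := isClosedUnderColimitsOfShape_isCardinalPresentable.{u} (ModuleCat.{u} A)
        (κ := Cardinal.aleph0.{u}) (J := WalkingParallelPair) (by rw [hasCardinalLT_aleph0_iff]; infer_instance)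
    refine (isCardinalPresentable (ModuleCat.{u} A) Cardinal.aleph0.{u}).prop_of_iso
      (ModuleCat.cokernelIsoRangeQuotient (ModuleCat.ofHom d) ≪≫
        LinearEquiv.toModuleIso ((Submodule.quotEquivOfEq _ _ hd).trans (p.quotKerEquivOfSurjective hp))) ?_
    exact ObjectProperty.prop_colimit _ _ (by rintro (_ | _) <;> exact hpi _)
  · rw [heq]
    refine ObjectProperty.colimitsCardinalClosure_le _ _ (fun J _ hJ => ?_) ?_
    · haveI : Finite (Arrow J) := (hasCardinalLT_aleph0_iff _).1 hJ
      haveI : Finite J := Finite.of_injective (fun j => Arrow.mk (𝟙 j)) fun a b h => congrArg (fun t : Arrow J => t.left) h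
      haveI : ∀ a b : J, Finite (a ⟶ b) := fun a b =>
        Finite.of_injective (fun f => Arrow.mk f) fun f g h => by simpa using ((Arrow.mk_eq_mk_iff _ _).1 h).2.2
      letI : Fintype J := Fintype.ofFinite J
      letI : FinCategory J := { fintypeHom := fun a b => Fintype.ofFinite _ }
      exact ObjectProperty.IsClosedUnderColimitsOfShape.of_equivalence (FinCategory.equivAsType J)
    · intro X hX
      obtain rfl : X = ModuleCat.of A A := by simpa [eq_comm] using hX
      exact (unit A).2

theorem isPresentable {M : ModuleCat.{u} A} (hM : fp A M) : IsFinitelyPresentable.{u} M :=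
  (fp_eq A).le M hM

instance (P : FP A) : IsFinitelyPresentable.{u} P.obj := isPresentable A P.2

instance : IsCardinalLocallyPresentable (ModuleCat.{u} A) Cardinal.aleph0.{u} :=
  (IsCardinalLocallyPresentable.iff_exists_isStrongGenerator _ _).2
    ⟨_, inferInstance, isStrongGenerator_unit A, fun X hX => by
      obtain rfl : X = ModuleCat.of A A := by simpa [eq_comm] using hX
      exact isPresentable_unit A⟩

instance isDense_fp : (fp A).ι.IsDense := by
  rw [fp_eq]
  infer_instance

instance isFiltered_costructuredArrow (M : ModuleCat.{u} A) :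
    IsFiltered (CostructuredArrow (fp A).ι M) := by
  rw [fp_eq]
  exact isFiltered_of_isCardinalFiltered _ Cardinal.aleph0.{u}

instance essentiallySmall_fp : ObjectProperty.EssentiallySmall.{u} (fp A) := by
  rw [fp_eq]
  infer_instance

variable {A} {B : Type u'} [Category.{v'} B]

section Extension

variable (G : ModuleCat.{u} A ⥤ B) [PreservesFilteredColimitsOfSize.{u, u} G]

instance preservesColimitsOfShape_costructuredArrow (M : ModuleCat.{u} A) :
    PreservesColimitsOfShape (CostructuredArrow (fp A).ι M) G := by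
  haveI := IsFiltered.of_equivalence (equivSmallModel.{u} (CostructuredArrow (fp A).ι M))
  exact preservesColimitsOfShape_of_equiv (equivSmallModel.{u} (CostructuredArrow (fp A).ι M)).symm G

/-- A functor commuting with filtered colimits is the pointwise extension of its restriction. -/
noncomputable def isPointwiseExtension :
    (Functor.LeftExtension.mk G (𝟙 ((fp A).ι ⋙ G))).IsPointwiseLeftKanExtension := fun M =>
  IsColimit.ofIsoColimit (isColimitOfPreserves G ((fp A).ι.denseAt M))
    (Cocone.ext (Iso.refl _) fun g => by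
      change G.map (𝟙 g.left.obj ≫ g.hom) ≫ 𝟙 _ = 𝟙 _ ≫ G.map g.hom
      simp)

theorem extension_unique (G' : ModuleCat.{u} A ⥤ B) [PreservesFilteredColimitsOfSize.{u, u} G']
    (e : (fp A).ι ⋙ G' ≅ (fp A).ι ⋙ G) : Nonempty (G' ≅ G) := by
  haveI : G.IsLeftKanExtension (𝟙 ((fp A).ι ⋙ G)) := (isPointwiseExtension G).isLeftKanExtension
  haveI : G'.IsLeftKanExtension (𝟙 ((fp A).ι ⋙ G')) := (isPointwiseExtension G').isLeftKanExtension
  exact ⟨Functor.leftKanExtensionUniqueOfIso G' (𝟙 _) e G (𝟙 _)⟩

end Extension

section Pointwise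

variable (G : ModuleCat.{u} A ⥤ B)

/-- Morphisms out of the value at a module are determined on finitely presented modules mapping to it. -/
theorem ext_of_fp (hG : (Functor.LeftExtension.mk G (𝟙 ((fp A).ι ⋙ G))).IsPointwiseLeftKanExtension) {M : ModuleCat.{u} A} {T : B} {f g : G.obj M ⟶ T}
    (h : ∀ (P : FP A) (φ : P.obj ⟶ M), G.map φ ≫ f = G.map φ ≫ g) : f = g :=
  (hG M).hom_ext fun j => by
    change (𝟙 _ ≫ G.map j.hom) ≫ f = (𝟙 _ ≫ G.map j.hom) ≫ g
    simp only [Category.id_comp]
    exact h j.left j.hom

theorem exists_desc_fp (hG : (Functor.LeftExtension.mk G (𝟙 ((fp A).ι ⋙ G))).IsPointwiseLeftKanExtension) {M : ModuleCat.{u} A} {T : B} (k : ∀ (P : FP A), (P.obj ⟶ M) → (G.obj P.obj ⟶ T))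
    (hk : ∀ (P Q : FP A) (a : P ⟶ Q) (φ : Q.obj ⟶ M), G.map a.hom ≫ k Q φ = k P (a.hom ≫ φ)) :
    ∃ f : G.obj M ⟶ T, ∀ (P : FP A) (φ : P.obj ⟶ M), G.map φ ≫ f = k P φ := by
  let c : Cocone (CostructuredArrow.proj (fp A).ι M ⋙ (fp A).ι ⋙ G) :=
    { pt := T
      ι :=
        { app := fun j => k j.left j.hom
          naturality := fun j j' a => by
            change G.map a.left.hom ≫ k j'.left j'.hom = k j.left j.hom ≫ 𝟙 T
            rw [Category.comp_id]
            exact (hk j.left j'.left a.left j'.hom).trans (congrArg (k j.left) (CostructuredArrow.w a)) } }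
  refine ⟨(hG M).desc c, fun P φ => ?_⟩
  have := (hG M).fac c (CostructuredArrow.mk φ)
  change (𝟙 _ ≫ G.map φ) ≫ _ = k P φ at this
  rw [Category.id_comp] at this
  exact this

end Pointwise

end Groth.Agent.H6FunMor
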