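import Groth.Agent.H6FunMor.Extend

/-!
# Existence of the extension from finitely presented modules, commuting with filtered colimits
-/

universe v' u' u

open CategoryTheory CategoryTheory.Limits Opposite

namespace Groth.Agent.H6FunMor

variable {A : Type u} [CommRing A] {B : Type u'} [Category.{v'} B]

/-- A pointwise extension commutes with filtered colimits. -/
theorem preservesFilteredColimits_of_pointwise (G : ModuleCat.{u} A ⥤ B)
    (hG : (Functor.LeftExtension.mk G (𝟙 ((fp A).ι ⋙ G))).IsPointwiseLeftKanExtension) :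
    PreservesFilteredColimitsOfSize.{u, u} G := by
  refine ⟨fun J _ _ => ⟨fun {D} => ⟨fun {c} hc => ⟨IsColimit.ofExistsUnique fun s => ?_⟩⟩⟩⟩
  have key : ∀ (P : FP A) {j j' : J} (ψ : P.obj ⟶ D.obj j) (ψ' : P.obj ⟶ D.obj j'),
      ψ ≫ c.ι.app j = ψ' ≫ c.ι.app j' → G.map ψ ≫ s.ι.app j = G.map ψ' ≫ s.ι.app j' := by
    intro P j j' ψ ψ' h
    obtain ⟨k, a, b, hab⟩ := IsFinitelyPresentable.exists_eq_of_isColimit hc _ _ h
    have ha : G.map (D.map a) ≫ s.ι.app k = s.ι.app j := s.w a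
    have hb : G.map (D.map b) ≫ s.ι.app k = s.ι.app j' := s.w b
    rw [← ha, ← hb, ← G.map_comp_assoc, ← G.map_comp_assoc, hab]
  have hlift : ∀ (P : FP A) (φ : P.obj ⟶ c.pt), ∃ j, ∃ ψ : P.obj ⟶ D.obj j, ψ ≫ c.ι.app j = φ :=
    fun P φ => IsFinitelyPresentable.exists_hom_of_isColimit hc φ
  choose j ψ hψ using hlift
  obtain ⟨f, hf⟩ := exists_desc_fp G hG (T := s.pt) (fun P φ => G.map (ψ P φ) ≫ s.ι.app (j P φ))
    fun P Q a φ => by
      rw [← G.map_comp_assoc]
      exact key P _ _ (by rw [Category.assoc, hψ, hψ])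
  refine ⟨f, fun i => ext_of_fp G hG fun P φ => ?_, fun g hg => ext_of_fp G hG fun P φ => ?_⟩
  · change G.map φ ≫ G.map (c.ι.app i) ≫ f = G.map φ ≫ s.ι.app i
    rw [← G.map_comp_assoc, hf]
    exact key P _ _ (hψ P _)
  · rw [hf]
    conv_lhs => rw [← hψ P φ, G.map_comp, Category.assoc]
    exact congrArg (G.map (ψ P φ) ≫ ·) (hg _)

theorem exists_extension [HasFilteredColimitsOfSize.{u, u} B] (F : FP A ⥤ B) :
    ∃ F' : ModuleCat.{u} A ⥤ B, PreservesFilteredColimitsOfSize.{u, u} F' ∧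
      Nonempty ((fp A).ι ⋙ F' ≅ F) := by
  haveI : ∀ M : ModuleCat.{u} A, HasColimitsOfShape (CostructuredArrow (fp A).ι M) B := fun M => by
    haveI := IsFiltered.of_equivalence (equivSmallModel.{u} (CostructuredArrow (fp A).ι M))
    exact hasColimitsOfShape_of_equivalence (equivSmallModel.{u} (CostructuredArrow (fp A).ι M)).symm
  haveI : (fp A).ι.HasPointwiseLeftKanExtension F := fun M => inferInstance
  let E := (fp A).ι.pointwiseLeftKanExtension F
  let η := (fp A).ι.pointwiseLeftKanExtensionUnit F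
  let hE := (fp A).ι.pointwiseLeftKanExtensionIsPointwiseLeftKanExtension F
  haveI : IsIso η := hE.isIso_hom
  refine ⟨E, preservesFilteredColimits_of_pointwise E fun M => ?_, ⟨(asIso η).symm⟩⟩
  exact IsColimit.ofIsoColimit ((IsColimit.precomposeInvEquiv (Functor.isoWhiskerLeft
      (CostructuredArrow.proj (fp A).ι M) (asIso η)) _).symm (hE M))
    (Cocone.ext (Iso.refl _) fun g => by
      change ((asIso η).inv.app g.left ≫ (η.app g.left ≫ E.map g.hom)) ≫ 𝟙 (E.obj M) = 𝟙 _ ≫ E.map g.hom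
      simp)

end Groth.Agent.H6FunMor
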