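import Groth.Agent.H6FunMor.ExtendProps
import Groth.Agent.S6366
import Groth.Agent.S12207

/-!
# Left exactness read off from finitely presented modules over a coherent ring
-/

universe v' u' u

open CategoryTheory CategoryTheory.Limits Opposite

namespace Groth.Agent.H6FunMor

variable {A : Type u} [CommRing A] {B : Type u'} [Category.{v'} B] [Preadditive B] [HasFiniteBiproducts B]
  [HasKernels B] [HasFilteredColimitsOfSize.{u, u} B]
variable (G : ModuleCat.{u} A ⥤ B) [PreservesFilteredColimitsOfSize.{u, u} G]

omit [HasKernels B] [HasFiniteBiproducts B] in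
/-- Preservation of kernels passes to filtered colimits of morphisms. -/
theorem preservesKernel_of_isColimit [G.Additive] {I : Type u} [SmallCategory I] [IsFiltered I]
    [PreservesLimitsOfShape WalkingParallelPair (colim : (I ⥤ B) ⥤ B)]
    {D₁ D₂ : I ⥤ ModuleCat.{u} A} (α : D₁ ⟶ D₂) {c₁ : Cocone D₁} (hc₁ : IsColimit c₁)
    {c₂ : Cocone D₂} (hc₂ : IsColimit c₂) (f : c₁.pt ⟶ c₂.pt)
    (hf : ∀ i, c₁.ι.app i ≫ f = α.app i ≫ c₂.ι.app i)
    (h : ∀ i, PreservesLimit (parallelPair (α.app i) 0) G) :
    PreservesLimit (parallelPair f 0) G := by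
  haveI hL : PreservesLimit (parallelPair α 0) ((Functor.whiskeringRight I (ModuleCat.{u} A) B).obj G) :=
    preservesLimit_of_evaluation _ _ fun i => by
      haveI := h i
      haveI : PreservesLimit (parallelPair α 0 ⋙ (evaluation I (ModuleCat.{u} A)).obj i) G :=
        preservesLimit_of_iso_diagram G
          (parallelPair.ext (Iso.refl _) (Iso.refl _) (by simp) (by simp) :
            parallelPair (α.app i) 0 ≅ parallelPair α 0 ⋙ (evaluation I (ModuleCat.{u} A)).obj i)
      exact preservesLimit_of_natIso _
        (Iso.refl _ : (evaluation I (ModuleCat.{u} A)).obj i ⋙ G ≅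
          (Functor.whiskeringRight I (ModuleCat.{u} A) B).obj G ⋙ (evaluation I B).obj i)
  haveI : PreservesLimit (parallelPair α 0 ⋙ (Functor.whiskeringRight I (ModuleCat.{u} A) B).obj G)
      (colim : (I ⥤ B) ⥤ B) := preservesLimit_of_iso_diagram _ (diagramIsoParallelPair _).symm
  haveI : PreservesLimit (parallelPair α 0) ((colim : (I ⥤ ModuleCat.{u} A) ⥤ _) ⋙ G) :=
    preservesLimit_of_natIso _ (preservesColimitNatIso G).symm
  haveI : PreservesLimit (parallelPair α 0 ⋙ (colim : (I ⥤ ModuleCat.{u} A) ⥤ _)) G :=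
    preservesLimit_of_preserves_limit_cone (isLimitOfPreserves colim (kernelIsKernel α))
      (isLimitOfPreserves ((colim : (I ⥤ ModuleCat.{u} A) ⥤ _) ⋙ G) (kernelIsKernel α))
  let e₁ := (colimit.isColimit D₁).coconePointUniqueUpToIso hc₁
  let e₂ := (colimit.isColimit D₂).coconePointUniqueUpToIso hc₂
  exact preservesLimit_of_iso_diagram G
    (parallelPair.ext e₁ e₂ (colimit.hom_ext fun i => by
        change colimit.ι D₁ i ≫ colimMap α ≫ e₂.hom = colimit.ι D₁ i ≫ e₁.hom ≫ f
        rw [ι_colimMap_assoc]
        erw [IsColimit.comp_coconePointUniqueUpToIso_hom, IsColimit.comp_coconePointUniqueUpToIso_hom_assoc, hf])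
      (by change colim.map 0 ≫ _ = _ ≫ 0
          rw [show (colim : (I ⥤ ModuleCat.{u} A) ⥤ _).map (0 : D₁ ⟶ D₂) = 0 from colimit.hom_ext fun i => by simp]; simp) :
      parallelPair α 0 ⋙ colim ≅ parallelPair f 0)

variable [PreservesFiniteLimits ((fp A).ι ⋙ G)]

omit [HasKernels B] [HasFilteredColimitsOfSize.{u, u} B] in
theorem additive_on_fp_of_leftExact : ((fp A).ι ⋙ G).Additive := by
  haveI : HasFiniteBiproducts (FP A) := HasFiniteBiproducts.of_hasFiniteCoproducts
  haveI : HasBinaryBiproducts (FP A) := hasBinaryBiproducts_of_finite_biproducts _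
  haveI : HasZeroObject (FP A) := hasZeroObject_of_hasInitial_object
  haveI : HasZeroObject B := hasZeroObject_of_hasFiniteBiproducts B
  exact leftExactFunctor_le_additiveFunctor (FP A) B _ ((leftExactFunctor_iff _).2 inferInstance)

omit [HasKernels B] [HasFilteredColimitsOfSize.{u, u} B] in
theorem preservesKernel_fp (hA : ∀ I : Ideal A, I.FG → Module.FinitePresentation A I) {P Q : FP A}
    (f : P.obj ⟶ Q.obj) : PreservesLimit (parallelPair f 0) G := by
  haveI := additive_on_fp_of_leftExact G
  haveI := additive_of_additive_on_fp G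
  have hK : Module.FinitePresentation A (LinearMap.ker f.hom) :=
    (S6366.result A hA _).1 (S12207.result A ((S6366.result A hA _).2 P.2) ((S6366.result A hA _).2 Q.2) f.hom).1
  let K : FP A := ⟨ModuleCat.of A (LinearMap.ker f.hom), hK⟩
  let i : K ⟶ P := ObjectProperty.homMk (ModuleCat.ofHom (LinearMap.ker f.hom).subtype)
  let g : P ⟶ Q := ObjectProperty.homMk f
  have w : i ≫ g = 0 := ext_lin fun x => x.2
  have hlim : IsLimit (KernelFork.ofι i w) :=
    isLimitOfReflects (fp A).ι ((KernelFork.isLimitMapConeEquiv _ (fp A).ι).symm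
      (ModuleCat.kernelIsLimit f))
  exact preservesLimit_of_preserves_limit_cone (ModuleCat.kernelIsLimit f)
    ((KernelFork.isLimitMapConeEquiv _ G).symm
      (KernelFork.mapIsLimit _ hlim ((fp A).ι ⋙ G)))

variable (hcomm : ∀ (J : Type u) [SmallCategory J] [IsFiltered J],
    PreservesLimitsOfShape WalkingParallelPair (colim : (J ⥤ B) ⥤ B))

include hcomm in
theorem preservesKernel_from_fp (hA : ∀ I : Ideal A, I.FG → Module.FinitePresentation A I) {P : FP A}
    {N : ModuleCat.{u} A} (f : P.obj ⟶ N) : PreservesLimit (parallelPair f 0) G := by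
  haveI := additive_on_fp_of_leftExact G
  haveI := additive_of_additive_on_fp G
  let j₀ : CostructuredArrow (fp A).ι N := CostructuredArrow.mk f
  haveI : EssentiallySmall.{u} (CostructuredArrow (fp A).ι N) := inferInstance
  haveI : EssentiallySmall.{u} (Under j₀) := StructuredArrow.essentiallySmall (S := j₀) (T := 𝟭 _)
  let E := equivSmallModel.{u} (Under j₀)
  haveI : IsFiltered (Under j₀) := IsFiltered.under j₀
  haveI := IsFiltered.of_equivalence E
  haveI := hcomm (SmallModel.{u} (Under j₀))
  haveI : CategoryTheory.IsConnected (Under j₀) := IsFiltered.isConnected _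
  let D : Under j₀ ⥤ ModuleCat.{u} A := Under.forget j₀ ⋙ CostructuredArrow.proj (fp A).ι N ⋙ (fp A).ι
  let c : Cocone D := ((Functor.LeftExtension.mk _ (fp A).ι.rightUnitor.inv).coconeAt N).whisker (Under.forget j₀)
  have hc : IsColimit c := (Functor.Final.isColimitWhiskerEquiv (Under.forget j₀) _).symm ((fp A).ι.denseAt N)
  let α : (Functor.const (Under j₀)).obj P.obj ⟶ D :=
    { app := fun u => u.hom.left.hom
      naturality := fun u v a => by
        change 𝟙 _ ≫ v.hom.left.hom = u.hom.left.hom ≫ a.right.left.hom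
        rw [Category.id_comp, ← Under.w a]
        rfl }
  refine preservesKernel_of_isColimit G (Functor.whiskerLeft E.inverse α)
    ((isColimitConstCocone (Under j₀) P.obj).whiskerEquivalence E.symm) (hc.whiskerEquivalence E.symm) f
    (fun i => ?_) (fun i => preservesKernel_fp G hA _)
  have h := CostructuredArrow.w ((E.inverse.obj i).hom)
  change 𝟙 _ ≫ f = (E.inverse.obj i).hom.left.hom ≫ (𝟙 _ ≫ (E.inverse.obj i).right.hom)
  simp only [Category.id_comp]
  exact h.symm

include hcomm in
theorem preservesKernel (hA : ∀ I : Ideal A, I.FG → Module.FinitePresentation A I)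
    {M N : ModuleCat.{u} A} (f : M ⟶ N) : PreservesLimit (parallelPair f 0) G := by
  haveI := additive_on_fp_of_leftExact G
  haveI := additive_of_additive_on_fp G
  let J := CostructuredArrow (fp A).ι M
  let E := equivSmallModel.{u} J
  haveI := IsFiltered.of_equivalence E
  haveI := hcomm (SmallModel.{u} J)
  haveI : CategoryTheory.IsConnected J := IsFiltered.isConnected _
  let D : J ⥤ ModuleCat.{u} A := CostructuredArrow.proj (fp A).ι M ⋙ (fp A).ι
  let α : D ⟶ (Functor.const J).obj N :=
    { app := fun j => j.hom ≫ f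
      naturality := fun a b e => by
        change e.left.hom ≫ b.hom ≫ f = (a.hom ≫ f) ≫ 𝟙 _
        rw [Category.comp_id, ← CostructuredArrow.w e]
        rfl }
  refine preservesKernel_of_isColimit G (Functor.whiskerLeft E.inverse α)
    (((fp A).ι.denseAt M).whiskerEquivalence E.symm)
    ((isColimitConstCocone J N).whiskerEquivalence E.symm) f (fun i => ?_)
    (fun i => preservesKernel_from_fp G hcomm hA (P := (E.inverse.obj i).left) _)
  change (𝟙 _ ≫ (E.inverse.obj i).hom) ≫ f = ((E.inverse.obj i).hom ≫ f) ≫ 𝟙 _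
  simp

include hcomm in
theorem preservesFiniteLimits_of_leftExact_on_fp (hA : ∀ I : Ideal A, I.FG → Module.FinitePresentation A I) :
    PreservesFiniteLimits G := by
  haveI := additive_on_fp_of_leftExact G
  haveI := additive_of_additive_on_fp G
  haveI : HasZeroObject B := hasZeroObject_of_hasFiniteBiproducts B
  haveI : ∀ {X Y : ModuleCat.{u} A} (f : X ⟶ Y), PreservesLimit (parallelPair f 0) G :=
    fun f => preservesKernel G hcomm hA f
  exact G.preservesFiniteLimits_of_preservesKernels

end Groth.Agent.H6FunMor
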