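import Groth.Agent.H6FunMor.Extend

/-!
# Properties of functors on modules read off from their restriction to finitely presented modules
-/

universe v' u' u

open CategoryTheory CategoryTheory.Limits Opposite

namespace Groth.Agent.H6FunMor

section Coproducts

variable {C : Type*} [Category* C] {D : Type*} [Category* D]

open CoproductsFromFiniteFiltered

/-- Coproducts are filtered colimits of finite ones. -/
theorem preservesCoproducts_of_finite_and_filtered [HasFiniteCoproducts C] {α : Type u}
    [HasCoproductsOfShape α C] [HasFilteredColimitsOfSize.{u, u} C] (G : C ⥤ D)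
    [PreservesFilteredColimitsOfSize.{u, u} G] [PreservesFiniteCoproducts G] :
    PreservesColimitsOfShape (Discrete α) G := by
  classical
  suffices ∀ f : α → C, PreservesColimit (Discrete.functor f) G from
    ⟨fun {K} => haveI := this (K.obj ∘ Discrete.mk); preservesColimit_of_iso_diagram G Discrete.natIsoFunctor.symm⟩
  intro f
  have hc := isColimitOfPreserves G (isColimitFiniteSubproductsCocone f)
  have hS := fun S : Finset (Discrete α) =>
    isColimitOfHasCoproductOfPreservesColimit G (fun x : S => f x.1.as)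
  suffices hf : IsColimit (Cofan.mk (G.obj (∐ f)) fun j => G.map (Sigma.ι f j) : Cofan fun j => G.obj (f j)) from
    preservesColimit_of_preserves_colimit_cocone (coproductIsCoproduct f)
      ((isColimitMapCoconeCofanMkEquiv G f _).symm hf)
  have hι : ∀ (S : Finset (Discrete α)) (x : S),
      Sigma.ι (fun x : S => f x.1.as) x ≫ (finiteSubcoproductsCocone f).ι.app S = Sigma.ι f x.1.as :=
    fun S x => colimit.ι_desc _ _
  have hιG : ∀ (S : Finset (Discrete α)) (x : S),
      G.map (Sigma.ι (fun x : S => f x.1.as) x) ≫ G.map ((finiteSubcoproductsCocone f).ι.app S) =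
        G.map (Sigma.ι f x.1.as) := fun S x =>
    (G.map_comp _ _).symm.trans (congrArg G.map (hι S x))
  refine mkCofanColimit _ (fun s => hc.desc
    { pt := s.pt
      ι :=
        { app := fun S => Cofan.IsColimit.desc (hS S) fun x => s.inj x.1.as
          naturality := fun S T h => Cofan.IsColimit.hom_ext (hS S) _ _ fun x => by
            erw [Category.comp_id, Cofan.IsColimit.fac]
            change G.map _ ≫ G.map _ ≫ _ = _
            rw [← G.map_comp_assoc]
            erw [colimit.ι_desc]
            exact Cofan.IsColimit.fac (hS T) _ _ } }) (fun s j => ?_) (fun s m hm => hc.hom_ext fun S => ?_)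
  · let x : ({⟨j⟩} : Finset (Discrete α)) := ⟨⟨j⟩, Finset.mem_singleton_self _⟩
    change G.map (Sigma.ι f j) ≫ _ = _
    rw [show G.map (Sigma.ι f j) = G.map (Sigma.ι f x.1.as) from rfl, ← hιG _ x]
    erw [Category.assoc, hc.fac]
    exact Cofan.IsColimit.fac (hS _) _ _
  · erw [hc.fac]
    refine Cofan.IsColimit.hom_ext (hS S) _ _ fun x => ?_
    erw [Cofan.IsColimit.fac]
    change G.map _ ≫ G.map _ ≫ m = _
    exact (Category.assoc _ _ _).symm.trans ((congrArg (· ≫ m) (hιG S x)).trans (hm _))

end Coproducts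

section Additive

variable {A : Type u} [CommRing A] {B : Type u'} [Category.{v'} B] [Preadditive B]

/-- The direct sum of two finitely presented modules. -/
abbrev prod (P Q : FP A) : FP A := ⟨ModuleCat.of A (P.obj × Q.obj), inferInstanceAs (Module.FinitePresentation A (P.obj × Q.obj))⟩

variable (G : ModuleCat.{u} A ⥤ B) [PreservesFilteredColimitsOfSize.{u, u} G]

theorem additive_of_additive_on_fp [((fp A).ι ⋙ G).Additive] : G.Additive where
  map_add {M N f g} := ext_of_fp G (isPointwiseExtension G) fun P φ => by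
    let inl : P ⟶ prod P P := ObjectProperty.homMk (ModuleCat.ofHom (LinearMap.inl A P.obj P.obj))
    let inr : P ⟶ prod P P := ObjectProperty.homMk (ModuleCat.ofHom (LinearMap.inr A P.obj P.obj))
    let ψ : (prod P P).obj ⟶ N := ModuleCat.ofHom ((φ ≫ f).hom.coprod (φ ≫ g).hom)
    have hl : inl.hom ≫ ψ = φ ≫ f := by ext x; simp [inl, ψ]
    have hr : inr.hom ≫ ψ = φ ≫ g := by ext x; simp [inr, ψ]
    have hadd : G.map ((inl + inr).hom) = G.map inl.hom + G.map inr.hom :=
      ((fp A).ι ⋙ G).map_add (f := inl) (g := inr)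
    have hsum : φ ≫ (f + g) = (inl + inr).hom ≫ ψ := by
      rw [Preadditive.comp_add, ← hl, ← hr]
      exact (Preadditive.add_comp _ _ _ _ _ _).symm
    rw [Preadditive.comp_add, ← G.map_comp, ← G.map_comp, ← G.map_comp, hsum, ← hl, ← hr, G.map_comp,
      hadd, Preadditive.add_comp, ← G.map_comp, ← G.map_comp]

theorem preservesCoproducts_of_additive_on_fp [((fp A).ι ⋙ G).Additive] (J : Type u) :
    PreservesColimitsOfShape (Discrete J) G := by
  haveI := additive_of_additive_on_fp G
  haveI : PreservesFiniteCoproducts G := Functor.preservesFiniteCoproductsOfAdditive G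
  exact preservesCoproducts_of_finite_and_filtered G

section RightExact

variable [HasFiniteBiproducts B] [HasCokernels B] [PreservesFiniteColimits ((fp A).ι ⋙ G)]

omit [HasCokernels B] in
theorem additive_on_fp_of_rightExact : ((fp A).ι ⋙ G).Additive := by
  haveI : HasFiniteBiproducts (FP A) := HasFiniteBiproducts.of_hasFiniteCoproducts
  haveI : HasBinaryBiproducts (FP A) := hasBinaryBiproducts_of_finite_biproducts _
  haveI : HasZeroObject (FP A) := hasZeroObject_of_hasInitial_object
  haveI : HasZeroObject B := hasZeroObject_of_hasFiniteBiproducts B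
  exact rightExactFunctor_le_additiveFunctor (FP A) B _ ((rightExactFunctor_iff _).2 inferInstance)

/-- The free module with `n` generators. -/
abbrev free (n : ℕ) : FP A := ⟨ModuleCat.of A (Fin n → A), inferInstanceAs (Module.FinitePresentation A (Fin n → A))⟩

omit [HasCokernels B] in
theorem existsUnique_factor {n : ℕ} {Q : FP A} (p : free n ⟶ Q) (hp : Function.Surjective p.hom.hom) {T : B}
    (k : G.obj (free (A := A) n).obj ⟶ T)
    (hk : ∀ (m : ℕ) (x : free (A := A) m ⟶ free n), x ≫ p = 0 → G.map x.hom ≫ k = 0) :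
    ∃! l : G.obj Q.obj ⟶ T, G.map p.hom ≫ l = k := by
  haveI := additive_on_fp_of_rightExact G
  obtain ⟨m, r, hr⟩ := Submodule.fg_iff_exists_fin_generating_family.1
    (Module.FinitePresentation.fg_ker p.hom.hom hp)
  let d : free (A := A) m ⟶ free n := ObjectProperty.homMk (ModuleCat.ofHom (Fintype.linearCombination A r))
  have hd : LinearMap.range d.hom.hom = LinearMap.ker p.hom.hom := by
    rw [← hr]; exact Fintype.range_linearCombination A r
  have w : d ≫ p = 0 := ext_lin fun x => (hd ▸ LinearMap.mem_range_self d.hom.hom x : d.hom.hom x ∈ LinearMap.ker p.hom.hom)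
  have hex : ∀ {Z : FP A} (g : free (A := A) n ⟶ Z), d ≫ g = 0 → ∃ e : Q ⟶ Z, p ≫ e = g := fun {Z} g hg => by
    have hle : LinearMap.ker p.hom.hom ≤ LinearMap.ker g.hom.hom := by
      rw [← hd]
      rintro _ ⟨x, rfl⟩
      exact congrArg (fun t : free (A := A) m ⟶ Z => t.hom.hom x) hg
    refine ⟨ObjectProperty.homMk (ModuleCat.ofHom (((LinearMap.ker p.hom.hom).liftQ g.hom.hom hle).comp
      (p.hom.hom.quotKerEquivOfSurjective hp).symm.toLinearMap)), ext_lin fun x => ?_⟩
    change (LinearMap.ker p.hom.hom).liftQ g.hom.hom hle ((p.hom.hom.quotKerEquivOfSurjective hp).symm (p.hom.hom x)) = _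
    rw [LinearMap.quotKerEquivOfSurjective_symm_apply]
    rfl
  haveI : Epi p := epi_of_surjective hp
  let hc : IsColimit (CokernelCofork.ofπ p w) := CokernelCofork.IsColimit.ofπ _ _
    (fun g hg => (hex g hg).choose) (fun g hg => (hex g hg).choose_spec)
    (fun g hg b hb => (cancel_epi p).1 (hb.trans (hex g hg).choose_spec.symm))
  have hc' := CokernelCofork.mapIsColimit (CokernelCofork.ofπ p w) hc ((fp A).ι ⋙ G)
  obtain ⟨l, hl⟩ := CokernelCofork.IsColimit.desc' hc' k (hk m d w)
  exact ⟨l, hl, fun l' hl' => Cofork.IsColimit.hom_ext hc' (hl'.trans hl.symm)⟩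

theorem preservesCokernel {M N : ModuleCat.{u} A} (f : M ⟶ N) : PreservesColimit (parallelPair f 0) G := by
  haveI := additive_on_fp_of_rightExact G
  haveI := additive_of_additive_on_fp G
  let π := cokernel.π f
  have hsurj : Function.Surjective π.hom := (ModuleCat.epi_iff_surjective π).1 inferInstance
  refine preservesColimit_of_preserves_colimit_cocone (cokernelIsCokernel f)
    ((CokernelCofork.isColimitMapCoconeEquiv _ G).2 ?_)
  have hfree : ∀ (n : ℕ) (φ : (free (A := A) n).obj ⟶ cokernel f), ∃ ψ : (free (A := A) n).obj ⟶ N, ψ ≫ π = φ :=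
    fun n φ => by
      obtain ⟨l, hl⟩ := Module.projective_lifting_property π.hom φ.hom hsurj
      exact ⟨ModuleCat.ofHom l, ModuleCat.hom_ext hl⟩
  have hzero : ∀ (T : B) (h : G.obj N ⟶ T), G.map f ≫ h = 0 → ∀ (n : ℕ) (ψ : (free (A := A) n).obj ⟶ N),
      ψ ≫ π = 0 → G.map ψ ≫ h = 0 := by
    intro T h hh n ψ hψ
    have hex := (ShortComplex.moduleCat_exact_iff _).1
      (ShortComplex.exact_of_g_is_cokernel (ShortComplex.mk f π (cokernel.condition f)) (cokernelIsCokernel f))
    have hle : LinearMap.range ψ.hom ≤ LinearMap.range f.hom := by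
      rintro _ ⟨x, rfl⟩
      exact hex _ (congrArg (fun t => t.hom x) hψ)
    obtain ⟨l, hl⟩ := Module.projective_lifting_property f.hom.rangeRestrict
      (ψ.hom.codRestrict _ fun x => hle ⟨x, rfl⟩) f.hom.surjective_rangeRestrict
    have : ψ = ModuleCat.ofHom l ≫ f := by
      exact ModuleCat.hom_ext (LinearMap.ext fun x => (congrArg Subtype.val (LinearMap.congr_fun hl x)).symm)
    rw [this, G.map_comp, Category.assoc, hh, comp_zero]
  have hcov : ∀ (P : FP A), ∃ (n : ℕ) (p : free (A := A) n ⟶ P), Function.Surjective p.hom.hom := fun P => by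
    obtain ⟨n, p, hp⟩ := Module.Finite.exists_fin' A P.obj
    exact ⟨n, ObjectProperty.homMk (ModuleCat.ofHom p), hp⟩
  choose n p hp using hcov
  have hlift : ∀ (P : FP A) (φ : P.obj ⟶ cokernel f), ∃ ψ : (free (A := A) (n P)).obj ⟶ N, ψ ≫ π = (p P).hom ≫ φ :=
    fun P φ => hfree _ _
  choose ψ hψ using hlift
  have hdesc : ∀ (T : B) (h : G.obj N ⟶ T), G.map f ≫ h = 0 → ∃ l : G.obj (cokernel f) ⟶ T, G.map π ≫ l = h := by
    intro T h hh
    have hk : ∀ (P : FP A) (φ : P.obj ⟶ cokernel f),
        ∃! k : G.obj P.obj ⟶ T, G.map (p P).hom ≫ k = G.map (ψ P φ) ≫ h := fun P φ =>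
      existsUnique_factor G (p P) (hp P) _ fun m x hx => by
        rw [← G.map_comp_assoc]
        refine hzero T h hh _ _ ?_
        rw [Category.assoc, hψ, ← Category.assoc]
        change (x ≫ p P).hom ≫ φ = 0
        rw [hx]
        exact zero_comp
    choose k hk hku using hk
    obtain ⟨l, hl⟩ := exists_desc_fp G (isPointwiseExtension G) k fun P Q a φ => hku P _ _ (by
      obtain ⟨b, hb⟩ := Module.projective_lifting_property (p Q).hom.hom ((p P).hom ≫ a.hom).hom (hp Q)
      have hb' : ModuleCat.ofHom b ≫ (p Q).hom = (p P).hom ≫ a.hom := ModuleCat.hom_ext hb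
      have hdiff := hzero T h hh _ (ψ P (a.hom ≫ φ) - ModuleCat.ofHom b ≫ ψ Q φ) (by
        rw [Preadditive.sub_comp, hψ, Category.assoc, hψ, reassoc_of% hb', sub_self])
      rw [G.map_sub, Preadditive.sub_comp, sub_eq_zero, G.map_comp, Category.assoc, ← hk Q φ,
        ← G.map_comp_assoc, hb', G.map_comp, Category.assoc] at hdiff
      exact hdiff.symm)
    refine ⟨l, ext_of_fp G (isPointwiseExtension G) fun P φ => ?_⟩
    rw [← G.map_comp_assoc, hl]
    refine (existsUnique_factor G (p P) (hp P) (G.map ((p P).hom ≫ φ) ≫ h) fun m x hx => ?_).unique ?_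
      (by rw [G.map_comp, Category.assoc])
    · rw [← G.map_comp_assoc, ← Category.assoc]
      change G.map ((x ≫ p P).hom ≫ φ) ≫ h = 0
      rw [hx]
      exact (congrArg (fun t => G.map t ≫ h) zero_comp).trans (by rw [G.map_zero, zero_comp])
    · rw [hk]
      have hdiff := hzero T h hh _ (ψ P (φ ≫ π) - (p P).hom ≫ φ) (by
        rw [Preadditive.sub_comp, hψ, Category.assoc, sub_self])
      rwa [G.map_sub, Preadditive.sub_comp, sub_eq_zero] at hdiff
  have hepi : ∀ (T : B) (a b : G.obj (cokernel f) ⟶ T), G.map π ≫ a = G.map π ≫ b → a = b := by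
    intro T a b hab
    refine ext_of_fp G (isPointwiseExtension G) fun P φ => ?_
    refine (existsUnique_factor G (p P) (hp P) (G.map ((p P).hom ≫ φ) ≫ a) fun m x hx => ?_).unique
      (by rw [G.map_comp, Category.assoc]) ?_
    · rw [← G.map_comp_assoc, ← Category.assoc]
      change G.map ((x ≫ p P).hom ≫ φ) ≫ a = 0
      rw [hx]
      exact (congrArg (fun t => G.map t ≫ a) zero_comp).trans (by rw [G.map_zero, zero_comp])
    · rw [← G.map_comp_assoc, ← hψ, G.map_comp, Category.assoc, Category.assoc, hab]
  exact CokernelCofork.IsColimit.ofπ (G.map π) (by rw [← G.map_comp, cokernel.condition, G.map_zero])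
    (fun {T} h hh => (hdesc T h hh).choose) (fun {T} h hh => (hdesc T h hh).choose_spec)
    (fun {T} h hh b hb => hepi T _ _ (hb.trans (hdesc T h hh).choose_spec.symm))

theorem preservesFiniteColimits_of_rightExact_on_fp : PreservesFiniteColimits G := by
  haveI := additive_on_fp_of_rightExact G
  haveI := additive_of_additive_on_fp G
  haveI : HasZeroObject B := hasZeroObject_of_hasFiniteBiproducts B
  haveI : ∀ {X Y : ModuleCat.{u} A} (f : X ⟶ Y), PreservesColimit (parallelPair f 0) G :=
    fun f => preservesCokernel G f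
  exact G.preservesFiniteColimits_of_preservesCokernels

end RightExact

end Additive

end Groth.Agent.H6FunMor
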