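import Groth.Agent.H6FunMor.FMRight
import Groth.Agent.KFlatLib.BaseChange
import Groth.Agent.KFlatLib.Scheme.Pullback
import Groth.Agent.TriCat.AcyclicObj
import Groth.Agent.SpObjSS.Grothendieck
import Groth.Prelude.Def_FlatMod2

/-!
# Exact kernel functors
-/

universe w u

open CategoryTheory CategoryTheory.Limits AlgebraicGeometry MonoidalCategory

namespace Groth.Agent.H6FunMor

variable {X Y Z : Scheme.{u}}

/-- Stalks of `p^*M ⊗ K` over the base are `K_z ⊗ M_{p z}`. -/
noncomputable def stalkKernelIso (p : Z ⟶ X) (K : Z.Modules) (z : Z) :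
    Scheme.Modules.pullback p ⋙ DCoh.tensorRightMod K ⋙ DerSch.stalkOver p z ≅
      DerSch.stalkFunctor X (p.base z) ⋙ tensorLeft ((DerSch.stalkOver p z).obj K) :=
  let ψ := (p.stalkMap z).hom
  let Kz := (DerSch.stalkFunctor Z z).obj K
  Functor.isoWhiskerLeft (Scheme.Modules.pullback p)
      (Functor.isoWhiskerRight (Functor.isoWhiskerRight
          (NatIso.ofComponents (fun _ => Iso.refl _) (fun f => by simp; rfl) :
            DCoh.tensorRightMod K ≅ DCoh.tensorBi.flip.obj K) (DerSch.stalkFunctor Z z) ≪≫
        KFlatLib.stalkTensorRightIso K z ≪≫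
        Functor.isoWhiskerLeft _ (BraidedCategory.tensorLeftIsoTensorRight Kz).symm)
        (ModuleCat.restrictScalars ψ)) ≪≫
    Functor.isoWhiskerRight (KFlatLib.stalkPullbackIso p z) (tensorLeft Kz ⋙ ModuleCat.restrictScalars ψ) ≪≫
    Functor.isoWhiskerLeft (DerSch.stalkFunctor X (p.base z)) ((KFlatLib.extTIso ψ).app Kz)

/-- Flatness over the base makes `M ↦ p^*M ⊗ K` exact. -/
theorem shortExact_map_kernel (p : Z ⟶ X) {K : Z.Modules} (hKf : FlatMod.IsFlatOver p K)
    {S : ShortComplex X.Modules} (hS : S.ShortExact)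
    [(Scheme.Modules.pullback p ⋙ DCoh.tensorRightMod K).PreservesZeroMorphisms] :
    (S.map (Scheme.Modules.pullback p ⋙ DCoh.tensorRightMod K)).ShortExact := by
  rw [KFlatLib.shortExact_iff_stalk]
  intro z
  haveI : Module.Flat (X.presheaf.stalk (p.base z)) ((DerSch.stalkOver p z).obj K : Type u) := hKf z
  have h : ((S.map (DerSch.stalkFunctor X (p.base z))).map
      (tensorLeft ((DerSch.stalkOver p z).obj K))).ShortExact :=
    ((KFlatLib.shortExact_iff_stalk S).1 hS (p.base z)).map_of_exact _
  have h' : (((S.map (Scheme.Modules.pullback p ⋙ DCoh.tensorRightMod K)).map (DerSch.stalkFunctor Z z)).map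
      (ModuleCat.restrictScalars.{u} (p.stalkMap z).hom)).ShortExact := by
    refine ShortComplex.shortExact_of_iso ?_ h
    refine ShortComplex.isoMk ((stalkKernelIso p K z).app S.X₁).symm ((stalkKernelIso p K z).app S.X₂).symm
      ((stalkKernelIso p K z).app S.X₃).symm ?_ ?_
    · exact ((stalkKernelIso p K z).inv.naturality S.f).symm
    · exact ((stalkKernelIso p K z).inv.naturality S.g).symm
  exact
    { exact := (ShortComplex.exact_map_iff_of_faithful _ _).1 h'.exact
      mono_f := Functor.mono_of_mono_map (ModuleCat.restrictScalars.{u} (p.stalkMap z).hom) h'.mono_f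
      epi_g := Functor.epi_of_epi_map (ModuleCat.restrictScalars.{u} (p.stalkMap z).hom) h'.epi_g }

/-- Kernel functors with acyclic flat kernels are exact. -/
theorem exact_kernel (p : Z ⟶ X) (q : Z ⟶ Y) [QuasiCompact q] [QuasiSeparated q] [HasInjectiveResolutions Z.Modules]
    (K : Z.Modules) (hKf : FlatMod.IsFlatOver p K)
    (hKa : ∀ (M : X.Modules), Coh.IsQCoh M → IsZero ((Coh.Rpush q 1).obj
      ((DCoh.tensorRightMod K).obj ((Scheme.Modules.pullback p).obj M)))) :
    PreservesFiniteLimits (ObjectProperty.ι (QCohCat.isQCoh X) ⋙ Scheme.Modules.pullback p ⋙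
        DCoh.tensorRightMod K ⋙ Coh.push q) ∧
      PreservesFiniteColimits (ObjectProperty.ι (QCohCat.isQCoh X) ⋙ Scheme.Modules.pullback p ⋙
        DCoh.tensorRightMod K ⋙ Coh.push q) ∧
      ∀ J : Type u, PreservesColimitsOfShape (Discrete J) (ObjectProperty.ι (QCohCat.isQCoh X) ⋙
        Scheme.Modules.pullback p ⋙ DCoh.tensorRightMod K ⋙ Coh.push q) := by
  haveI := SpObjSS.enoughInjectives_of_hasInjectiveResolutions (C := Z.Modules)
  haveI := preservesFiniteColimits_tensorRightMod K
  haveI : PreservesColimitsOfSize.{0, 0} (Scheme.Modules.pullback p) :=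
    (Scheme.Modules.pullbackPushforwardAdjunction p).leftAdjoint_preservesColimits
  haveI : PreservesColimitsOfSize.{u, u} (Scheme.Modules.pullback p) :=
    (Scheme.Modules.pullbackPushforwardAdjunction p).leftAdjoint_preservesColimits
  haveI : PreservesFiniteColimits (Scheme.Modules.pullback p) := ⟨fun J _ _ => inferInstance⟩
  haveI : PreservesFiniteLimits (Coh.push q) := QCoh.preservesFiniteLimits_push q
  let G := ObjectProperty.ι (QCohCat.isQCoh X) ⋙ Scheme.Modules.pullback p ⋙ DCoh.tensorRightMod K
  haveI hGc : PreservesFiniteColimits G := inferInstance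
  haveI : G.Additive := Functor.additive_of_preserves_binary_products _
  haveI : (G ⋙ Coh.push q).Additive := inferInstance
  haveI : PreservesFiniteColimits (Scheme.Modules.pullback p ⋙ DCoh.tensorRightMod K) := inferInstance
  haveI : (Scheme.Modules.pullback p ⋙ DCoh.tensorRightMod K).Additive :=
    Functor.additive_of_preserves_binary_products _
  have hse : ∀ S : ShortComplex (QCohCat.isQCoh X).FullSubcategory, S.ShortExact →
      (S.map (G ⋙ Coh.push q)).ShortExact := by
    intro S hS
    have h₁ : (S.map G).ShortExact :=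
      shortExact_map_kernel p hKf (hS.map_of_exact (QCohCat.isQCoh X).ι)
    exact TriCat.shortExact_map_of_subsingleton (F := Coh.push q) h₁ (hKa _ S.X₁.2)
  refine ⟨?_, ?_, fun J => ?_⟩
  · suffices PreservesFiniteLimits (G ⋙ Coh.push q) from this
    have t := (Functor.preservesFiniteLimits_tfae (G ⋙ Coh.push q)).out 0 3
    exact t.1 fun S hS =>
      ⟨(hse S hS).exact, (hse S hS).mono_f⟩
  · suffices PreservesFiniteColimits (G ⋙ Coh.push q) from this
    have t := (Functor.preservesFiniteColimits_tfae (G ⋙ Coh.push q)).out 0 3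
    exact t.1 fun S hS =>
      ⟨(hse S hS).exact, (hse S hS).epi_g⟩
  · haveI := preservesCoproducts_tensorRightMod K J
    haveI : PreservesColimitsOfShape (Discrete J) (QCohCat.isQCoh X).ι :=
      preservesColimitOfShape_of_createsColimitsOfShape_and_hasColimitsOfShape _
    haveI := KFlatLib.preservesColimitsOfShape_push_discrete q (J := J)
    infer_instance

end Groth.Agent.H6FunMor
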