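import Groth.Agent.KFlatLib.Scheme.PushCoprod
import Groth.Agent.KFlatLib.Scheme.Tensor
import Groth.Agent.KFlatLib.Scheme.QCohTensor
import Groth.Agent.AmpleVan.AdicBase
import Groth.Agent.Exactness.QCohCategory
import Groth.Agent.H9ChowK.SigmaCoh

/-!
# Kernel functors are right exact along affine projections
-/

universe w u

open CategoryTheory CategoryTheory.Limits AlgebraicGeometry

namespace Groth.Agent.H6FunMor

variable {X Y Z : Scheme.{u}}

/-- Right tensoring commutes with finite colimits. -/
theorem preservesFiniteColimits_tensorRightMod (M : Z.Modules) :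
    PreservesFiniteColimits (DCoh.tensorRightMod M) := by
  haveI : PreservesFiniteColimits (DCoh.tensorBi.flip.obj M) := ⟨fun J _ _ => inferInstance⟩
  exact preservesFiniteColimits_of_natIso
    (NatIso.ofComponents (fun _ => Iso.refl _) (fun f => by simp; rfl) :
      DCoh.tensorBi.flip.obj M ≅ DCoh.tensorRightMod M)

/-- Right tensoring commutes with direct sums. -/
theorem preservesCoproducts_tensorRightMod (M : Z.Modules) (J : Type u) :
    PreservesColimitsOfShape (Discrete J) (DCoh.tensorRightMod M) :=
  preservesColimitsOfShape_of_natIso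
    (NatIso.ofComponents (fun _ => Iso.refl _) (fun f => by simp; rfl) :
      DCoh.tensorBi.flip.obj M ≅ DCoh.tensorRightMod M)

instance isClosedUnderCoproducts_isQCoh (J : Type u) :
    (QCohCat.isQCoh X).IsClosedUnderColimitsOfShape (Discrete J) where
  colimitsOfShape_le := by
    rintro M ⟨p⟩
    have e : (∐ fun j : J => p.diag.obj ⟨j⟩) ≅ M :=
      (coproductIsCoproduct _).coconePointUniqueUpToIso
        ((IsColimit.precomposeInvEquiv Discrete.natIsoFunctor _).symm p.isColimit)
    exact (QCoh.isQCoh_iff_iso e).1 (H9ChowK.isQCoh_sigma _ fun j => p.prop_diag_obj ⟨j⟩)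

/-- A left exact functor which keeps the lift into the kernel epi keeps exactness. -/
theorem exact_map_of_epi_lift {C D : Type*} [Category* C] [Category* D] [Abelian C] [Abelian D] (P : C ⥤ D)
    [P.Additive] [PreservesFiniteLimits P] (T : ShortComplex C) [Epi (P.map (kernel.lift T.g T.f T.zero))] :
    (T.map P).Exact := by
  rw [ShortComplex.exact_iff_epi_kernel_lift]
  have e : kernel.lift (P.map T.g) (P.map T.f) (by rw [← P.map_comp, T.zero, P.map_zero]) =
      P.map (kernel.lift T.g T.f T.zero) ≫ (PreservesKernel.iso P T.g).hom :=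
    (cancel_mono (kernel.ι (P.map T.g))).1 (by
      simp [PreservesKernel.iso_hom, ← P.map_comp])
  change Epi (kernel.lift (P.map T.g) (P.map T.f) _)
  rw [e]
  infer_instance

/-- Pullback, tensor, affine push: right exact and commuting with direct sums on quasi-coherent modules. -/
theorem rightExact_kernel (p : Z ⟶ X) (q : Z ⟶ Y) [IsAffineHom q] (K : Z.Modules) (hK : Coh.IsQCoh K) :
    PreservesFiniteColimits (ObjectProperty.ι (QCohCat.isQCoh X) ⋙ Scheme.Modules.pullback p ⋙
        DCoh.tensorRightMod K ⋙ Coh.push q) ∧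
      ∀ J : Type u, PreservesColimitsOfShape (Discrete J) (ObjectProperty.ι (QCohCat.isQCoh X) ⋙
        Scheme.Modules.pullback p ⋙ DCoh.tensorRightMod K ⋙ Coh.push q) := by
  haveI := preservesFiniteColimits_tensorRightMod K
  haveI : PreservesColimitsOfSize.{0, 0} (Scheme.Modules.pullback p) :=
    (Scheme.Modules.pullbackPushforwardAdjunction p).leftAdjoint_preservesColimits
  haveI : PreservesColimitsOfSize.{u, u} (Scheme.Modules.pullback p) :=
    (Scheme.Modules.pullbackPushforwardAdjunction p).leftAdjoint_preservesColimits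
  haveI : PreservesFiniteColimits (Scheme.Modules.pullback p) := ⟨fun J _ _ => inferInstance⟩
  refine ⟨?_, fun J => ?_⟩
  · let G := ObjectProperty.ι (QCohCat.isQCoh X) ⋙ Scheme.Modules.pullback p ⋙ DCoh.tensorRightMod K
    haveI hGc : PreservesFiniteColimits G := inferInstance
    haveI : G.Additive := Functor.additive_of_preserves_binary_products _
    haveI : (Coh.push q).Additive := inferInstance
    haveI : (G ⋙ Coh.push q).Additive := inferInstance
    have hqc : ∀ M, Coh.IsQCoh (G.obj M) := fun M =>
      KFlatLib.isQCoh_tensor (QCoh.isQCoh_pullback p M.2) hK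
    suffices PreservesFiniteColimits (G ⋙ Coh.push q) from this
    refine ((Functor.preservesFiniteColimits_tfae (G ⋙ Coh.push q)).out 0 3).1 fun S hS => ?_
    have hG : ∀ T : ShortComplex _, T.ShortExact → (T.map G).Exact ∧ Epi (G.map T.g) :=
      ((Functor.preservesFiniteColimits_tfae G).out 0 3).2 hGc
    obtain ⟨hex, hepi⟩ := hG S hS
    haveI : Epi (G.map S.g) := hepi
    refine ⟨?_, AmpleVan.epi_push q (hqc _) (hqc _) (G.map S.g)⟩
    let T := S.map G
    haveI : Epi (kernel.lift T.g T.f T.zero) := T.exact_iff_epi_kernel_lift.1 hex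
    haveI : PreservesFiniteLimits (Coh.push q) := QCoh.preservesFiniteLimits_push q
    change (T.map (Coh.push q)).Exact
    haveI : Epi ((Coh.push q).map (kernel.lift T.g T.f T.zero)) :=
      AmpleVan.epi_push q (show Coh.IsQCoh T.X₁ from hqc S.X₁)
        (QCoh.isQCoh_kernel (show Coh.IsQCoh T.X₂ from hqc S.X₂) (show Coh.IsQCoh T.X₃ from hqc S.X₃) T.g)
        (kernel.lift T.g T.f T.zero)
    exact exact_map_of_epi_lift (Coh.push q) T
  · haveI := preservesCoproducts_tensorRightMod K J
    haveI : PreservesColimitsOfShape (Discrete J) (QCohCat.isQCoh X).ι :=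
      preservesColimitOfShape_of_createsColimitsOfShape_and_hasColimitsOfShape _
    haveI := KFlatLib.preservesColimitsOfShape_push_discrete q (J := J)
    infer_instance

end Groth.Agent.H6FunMor
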