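import Mathlib

/-!
# The functor on finitely presented modules with a given value on the ring
-/

universe v' u' u

open CategoryTheory CategoryTheory.Limits

namespace Groth.Agent.H6FunMor

variable (A : Type u) [CommRing A]

/-- Finite presentation, as an object property. -/
abbrev fp : ObjectProperty (ModuleCat.{u} A) := fun M => Module.FinitePresentation A M

/-- Finitely presented modules. -/
abbrev FP := (fp A).FullSubcategory

/-- The ring as an object. -/
abbrev unit : FP A := ⟨ModuleCat.of A A, inferInstance⟩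

variable {A}

instance (M : FP A) : Module.FinitePresentation A M.obj := M.2

variable {J : Type} [SmallCategory J] [FinCategory J]

/-- The components of a colimit cocone jointly generate. -/
theorem eq_top_of_ι_mem {D : J ⥤ ModuleCat.{u} A} {c : Cocone D} (hc : IsColimit c) (W : Submodule A c.pt)
    (hW : ∀ j x, (c.ι.app j).hom x ∈ W) : W = ⊤ := by
  have h : ModuleCat.ofHom W.mkQ = (0 : c.pt ⟶ ModuleCat.of A (c.pt ⧸ W)) := hc.hom_ext fun j => by
    rw [comp_zero]
    ext x
    exact (Submodule.Quotient.mk_eq_zero W).2 (hW j x)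
  refine eq_top_iff.2 fun x _ => ?_
  exact (Submodule.Quotient.mk_eq_zero W).1 (congrArg (fun g => g.hom x) h)

instance : (fp A).IsClosedUnderColimitsOfShape J where
  colimitsOfShape_le := by
    classical
    rintro X ⟨h⟩
    let D := h.diag
    let c : Cocone D := Cocone.mk X h.ι
    have hc : IsColimit c := h.isColimit
    haveI : ∀ j, Module.FinitePresentation A (D.obj j) := h.prop_diag_obj
    let π : (∀ j, D.obj j) →ₗ[A] X := LinearMap.lsum A (fun j => D.obj j) A fun j => (c.ι.app j).hom
    have hπ : ∀ j x, π (Pi.single j x) = (c.ι.app j).hom x := fun j x => by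
      simp only [π, LinearMap.lsum_apply, LinearMap.sum_apply, LinearMap.comp_apply, LinearMap.proj_apply]
      rw [Finset.sum_eq_single j (fun i _ hi => by rw [Pi.single_eq_of_ne hi, map_zero]) (by simp),
        Pi.single_eq_same]
    have hsurj : Function.Surjective π := by
      rw [← LinearMap.range_eq_top]
      exact eq_top_of_ι_mem hc (LinearMap.range π) fun j x => ⟨Pi.single j x, hπ j x⟩
    let rel : (Σ (a : J) (b : J), a ⟶ b) → Submodule A (∀ j, D.obj j) := fun f =>
      LinearMap.range ((LinearMap.single A (fun j => D.obj j) f.2.1).comp (D.map f.2.2).hom -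
        LinearMap.single A (fun j => D.obj j) f.1)
    let R := ⨆ f, rel f
    have hle : R ≤ LinearMap.ker π := iSup_le fun ⟨a, b, f⟩ => by
      rintro _ ⟨x, rfl⟩
      simp only [LinearMap.mem_ker, LinearMap.sub_apply, LinearMap.comp_apply, map_sub, LinearMap.coe_single, hπ]
      rw [sub_eq_zero]
      exact congrArg (fun g => g.hom x) (c.w f)
    let s : Cocone D := Cocone.mk (ModuleCat.of A ((∀ j, D.obj j) ⧸ R))
      { app := fun j => ModuleCat.ofHom (R.mkQ.comp (LinearMap.single A (fun j => D.obj j) j))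
        naturality := fun a b f => by
          ext x
          exact (Submodule.Quotient.eq R).2 (le_iSup rel ⟨a, b, f⟩ ⟨x, rfl⟩) }
    have hker : LinearMap.ker π = R := by
      refine le_antisymm (fun z hz => ?_) hle
      have hd : (hc.desc s).hom.comp π = R.mkQ := LinearMap.pi_ext fun j x => by
        rw [LinearMap.comp_apply, hπ]
        exact congrArg (fun g => g.hom x) (hc.fac s j)
      rw [← Submodule.Quotient.mk_eq_zero R, ← Submodule.mkQ_apply, ← hd, LinearMap.comp_apply,
        LinearMap.mem_ker.1 hz, map_zero]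
    refine Module.finitePresentation_of_surjective π hsurj ?_
    rw [hker]
    exact Submodule.fg_iSup _ fun f => Module.Finite.iff_fg.1 (Module.Finite.range _)

instance : PreservesColimitsOfShape J (fp A).ι :=
  preservesColimitOfShape_of_createsColimitsOfShape_and_hasColimitsOfShape (fp A).ι

section Corep

variable {B : Type u'} [Category.{v'} B] [Preadditive B] (K : B) (κ : A →+* End K)

/-- Morphisms out of `K`, with the action of `A`. -/
def HomK (_ : A →+* End K) (X : B) : Type v' := K ⟶ X

instance (X : B) : AddCommGroup (HomK K κ X) := inferInstanceAs (AddCommGroup (K ⟶ X))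

instance (X : B) : Module A (HomK K κ X) where
  smul a f := κ a ≫ (f : K ⟶ X)
  one_smul f := by change κ 1 ≫ (f : K ⟶ X) = _; rw [map_one, End.one_def, Category.id_comp]
  mul_smul a b f := by
    change κ (a * b) ≫ (f : K ⟶ X) = κ a ≫ κ b ≫ (f : K ⟶ X)
    rw [mul_comm, map_mul, End.mul_def, Category.assoc]
  smul_zero a := comp_zero
  smul_add a f g := Preadditive.comp_add _ _ _ _ _ _
  add_smul a b f := by
    change κ (a + b) ≫ (f : K ⟶ X) = _
    rw [map_add]
    exact Preadditive.add_comp _ _ _ _ _ _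
  zero_smul f := by change κ 0 ≫ (f : K ⟶ X) = _; rw [map_zero]; exact zero_comp

/-- Postcomposition. -/
def post {X Y : B} (g : X ⟶ Y) : HomK K κ X →ₗ[A] HomK K κ Y where
  toFun f := (f : K ⟶ X) ≫ g
  map_add' f f' := Preadditive.add_comp _ _ _ _ _ _
  map_smul' a f := Category.assoc _ _ _

theorem post_comp {X Y Z : B} (g : X ⟶ Y) (g' : Y ⟶ Z) :
    post K κ (g ≫ g') = (post K κ g').comp (post K κ g) :=
  LinearMap.ext fun f => (Category.assoc (f : K ⟶ X) g g').symm

variable [HasFiniteBiproducts B] [HasCokernels B]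

/-- A universal linear map `M → Hom(K, -)`. -/
theorem exists_corep (M : ModuleCat.{u} A) [Module.FinitePresentation A M] :
    ∃ (FM : B) (η : M →ₗ[A] HomK K κ FM),
      ∀ (X : B) (φ : M →ₗ[A] HomK K κ X), ∃! g : FM ⟶ X, (post K κ g).comp η = φ := by
  classical
  obtain ⟨n, p, hp⟩ := Module.Finite.exists_fin' A M
  obtain ⟨m, r, hr⟩ := Submodule.fg_iff_exists_fin_generating_family.1 (Module.FinitePresentation.fg_ker p hp)
  let P := ⨁ fun _ : Fin n => K
  let Q := ⨁ fun _ : Fin m => K
  let d : Q ⟶ P := biproduct.desc fun i => ∑ j, κ (r i j) ≫ biproduct.ι (fun _ : Fin n => K) j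
  let e : (Fin n → A) →ₗ[A] HomK K κ (cokernel d) :=
    (Pi.basisFun A (Fin n)).constr A fun j => (biproduct.ι (fun _ : Fin n => K) j ≫ cokernel.π d : K ⟶ cokernel d)
  have he : ∀ (X : B) (g : cokernel d ⟶ X) (v : Fin n → A),
      post K κ g (e v) = ∑ j, κ (v j) ≫ biproduct.ι (fun _ : Fin n => K) j ≫ cokernel.π d ≫ g := fun X g v => by
    simp only [e, Module.Basis.constr_apply_fintype, map_sum, map_smul, Pi.basisFun_equivFun, LinearEquiv.refl_apply]
    exact Finset.sum_congr rfl fun j _ => congrArg (κ (v j) ≫ ·) (Category.assoc _ _ _)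
  have hker : LinearMap.ker p ≤ LinearMap.ker e := by
    rw [← hr, Submodule.span_le]
    rintro _ ⟨i, rfl⟩
    have h := congrArg (fun t => biproduct.ι (fun _ : Fin m => K) i ≫ t) (cokernel.condition d)
    simp only [d, biproduct.ι_desc_assoc, Preadditive.sum_comp, Category.assoc, comp_zero] at h
    have h' := he _ (𝟙 _) (r i)
    simp only [Category.comp_id] at h'
    refine LinearMap.mem_ker.2 (Eq.trans ?_ (h'.trans h))
    exact (Category.comp_id _).symm
  let iso : M ≃ₗ[A] (Fin n → A) ⧸ LinearMap.ker p := (p.quotKerEquivOfSurjective hp).symm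
  let η : M →ₗ[A] HomK K κ (cokernel d) := ((LinearMap.ker p).liftQ e hker).comp iso.toLinearMap
  have hη : ∀ v, η (p v) = e v := fun v => by
    have : iso (p v) = Submodule.Quotient.mk v := by
      rw [LinearEquiv.symm_apply_eq]
      rfl
    simp [η, this]
  refine ⟨cokernel d, η, fun X φ => ?_⟩
  let t : P ⟶ X := biproduct.desc fun j => (φ (p (Pi.basisFun A (Fin n) j)) : K ⟶ X)
  have ht : ∀ v : Fin n → A, ∑ j, κ (v j) ≫ biproduct.ι (fun _ : Fin n => K) j ≫ t = (φ (p v) : K ⟶ X) := fun v => by
    simp only [t, biproduct.ι_desc]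
    conv_rhs => rw [← (Pi.basisFun A (Fin n)).sum_repr v, map_sum, map_sum]
    exact Finset.sum_congr rfl fun j _ => by rw [map_smul, map_smul]; rfl
  have hd : d ≫ t = 0 := biproduct.hom_ext' _ _ fun i => by
    rw [comp_zero, biproduct.ι_desc_assoc, Preadditive.sum_comp]
    simp only [Category.assoc]
    rw [ht, show p (r i) = 0 from (hr ▸ Submodule.subset_span ⟨i, rfl⟩ : r i ∈ LinearMap.ker p), map_zero]
    rfl
  refine ⟨cokernel.desc d t hd, LinearMap.ext fun x => ?_, fun g hg => ?_⟩
  · obtain ⟨v, rfl⟩ := hp x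
    rw [LinearMap.comp_apply, hη, he]
    simp only [cokernel.π_desc]
    exact ht v
  · refine coequalizer.hom_ext (biproduct.hom_ext' _ _ fun j => ?_)
    rw [cokernel.π_desc, biproduct.ι_desc, ← hg, LinearMap.comp_apply, hη, he]
    rw [Finset.sum_eq_single j (fun i _ hi => by simp [Pi.single_eq_of_ne hi]) (by simp)]
    simp [End.one_def]

/-- The object attached to a finitely presented module. -/
noncomputable def obj (M : FP A) : B := (exists_corep K κ M.obj).choose

/-- The universal map. -/
noncomputable def η (M : FP A) : M.obj →ₗ[A] HomK K κ (obj K κ M) := (exists_corep K κ M.obj).choose_spec.choose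

theorem existsUnique_hom (M : FP A) {X : B} (φ : M.obj →ₗ[A] HomK K κ X) :
    ∃! g : obj K κ M ⟶ X, (post K κ g).comp (η K κ M) = φ :=
  (exists_corep K κ M.obj).choose_spec.choose_spec X φ

/-- The morphism induced by a linear map. -/
noncomputable def descHom (M : FP A) {X : B} (φ : M.obj →ₗ[A] HomK K κ X) : obj K κ M ⟶ X :=
  (existsUnique_hom K κ M φ).choose

theorem post_descHom (M : FP A) {X : B} (φ : M.obj →ₗ[A] HomK K κ X) :
    (post K κ (descHom K κ M φ)).comp (η K κ M) = φ :=
  (existsUnique_hom K κ M φ).choose_spec.1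

theorem hom_ext (M : FP A) {X : B} {g g' : obj K κ M ⟶ X}
    (h : (post K κ g).comp (η K κ M) = (post K κ g').comp (η K κ M)) : g = g' :=
  (existsUnique_hom K κ M _).unique rfl h.symm

theorem post_id (X : B) : post K κ (𝟙 X) = LinearMap.id := LinearMap.ext fun f => Category.comp_id (f : K ⟶ X)

/-- The functor with value `K` on `A`. -/
noncomputable def func : FP A ⥤ B where
  obj := obj K κ
  map {M N} h := descHom K κ M ((η K κ N).comp h.hom.hom)
  map_id M := hom_ext K κ M (by rw [post_descHom, post_id]; rfl)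
  map_comp {M N L} h h' := hom_ext K κ M (by
    rw [post_descHom, post_comp, LinearMap.comp_assoc, post_descHom, ← LinearMap.comp_assoc, post_descHom]
    rfl)

theorem post_map {M N : FP A} (h : M ⟶ N) :
    (post K κ ((func K κ).map h)).comp (η K κ M) = (η K κ N).comp h.hom.hom :=
  post_descHom K κ M _

/-- The universal map is natural. -/
theorem post_map_comp {M N : FP A} (h : M ⟶ N) {X : B} (g : (func K κ).obj N ⟶ X) :
    ((post K κ g).comp (η K κ N)).comp h.hom.hom = (post K κ ((func K κ).map h ≫ g)).comp (η K κ M) :=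
  LinearMap.ext fun x => (congrArg (fun f : K ⟶ _ => f ≫ g) (LinearMap.congr_fun (post_map K κ h) x).symm).trans
    (Category.assoc (η K κ M x : K ⟶ _) _ g)

/-- A linear map out of the apex of a colimit into any module, from a compatible family. -/
theorem exists_desc {D : J ⥤ FP A} {c : Cocone D} (hc : IsColimit c) {X : Type v'} [AddCommGroup X] [Module A X]
    (φ : ∀ j, (D.obj j).obj →ₗ[A] X) (hφ : ∀ {a b} (f : a ⟶ b), (φ b).comp (D.map f).hom.hom = φ a) :
    ∃! ψ : c.pt.obj →ₗ[A] X, ∀ j, ψ.comp (c.ι.app j).hom.hom = φ j := by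
  classical
  have hc' := isColimitOfPreserves (fp A).ι hc
  -- the images generate a small module
  let Φ : (∀ j, (D.obj j).obj) →ₗ[A] X := LinearMap.lsum A (fun j => (D.obj j).obj) A φ
  let R := ModuleCat.of A ((∀ j, (D.obj j).obj) ⧸ LinearMap.ker Φ)
  let incl : R →ₗ[A] X := (LinearMap.ker Φ).liftQ Φ le_rfl
  have hincl : Function.Injective incl := LinearMap.ker_eq_bot.1 (Submodule.ker_liftQ_eq_bot _ _ _ le_rfl)
  let φ' : ∀ j, (D.obj j).obj →ₗ[A] R := fun j =>
    (LinearMap.ker Φ).mkQ.comp (LinearMap.single A (fun j => (D.obj j).obj) j)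
  have hφ' : ∀ j, incl.comp (φ' j) = φ j := fun j => LinearMap.ext fun x => by
    change Φ (Pi.single j x) = φ j x
    simp only [Φ, LinearMap.lsum_apply, LinearMap.sum_apply, LinearMap.comp_apply, LinearMap.proj_apply]
    rw [Finset.sum_eq_single j (fun i _ hi => by rw [Pi.single_eq_of_ne hi, map_zero]) (by simp),
      Pi.single_eq_same]
  let s : Cocone (D ⋙ (fp A).ι) := Cocone.mk R
    { app := fun j => ModuleCat.ofHom (φ' j)
      naturality := fun a b f => by
        ext x
        apply hincl
        change incl.comp (φ' b) ((D.map f).hom.hom x) = incl.comp (φ' a) x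
        rw [hφ', hφ']
        exact LinearMap.congr_fun (hφ f) x }
  refine ⟨incl.comp (hc'.desc s).hom, fun j => ?_, fun ψ hψ => ?_⟩
  · rw [← hφ' j]
    exact LinearMap.ext fun x => congrArg incl (congrArg (fun g => g.hom x) (hc'.fac s j))
  · refine LinearMap.eqLocus_eq_top.1 (eq_top_of_ι_mem hc' _ fun j z => ?_)
    change ψ _ = incl _
    refine (LinearMap.congr_fun (hψ j) z).trans ?_
    rw [← hφ' j]
    exact (congrArg incl (congrArg (fun g => g.hom z) (hc'.fac s j))).symm

instance : PreservesColimitsOfShape J (func K κ) :=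
  ⟨fun {D} => ⟨fun {c} hc => ⟨IsColimit.ofExistsUnique fun s => by
    have hnat : ∀ {a b} (f : a ⟶ b),
        ((post K κ (s.ι.app b)).comp (η K κ (D.obj b))).comp (D.map f).hom.hom =
          (post K κ (s.ι.app a)).comp (η K κ (D.obj a)) := fun {a b} f =>
      (post_map_comp K κ (D.map f) (s.ι.app b)).trans
        (congrArg (fun g => (post K κ g).comp (η K κ (D.obj a))) (s.w f))
    let φ : ∀ j, (D.obj j).obj →ₗ[A] HomK K κ s.pt := fun j => (post K κ (s.ι.app j)).comp (η K κ (D.obj j))
    obtain ⟨ψ, hψ, huniq⟩ := exists_desc hc φ (fun {a b} f => hnat f)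
    refine ⟨descHom K κ c.pt ψ, fun j => hom_ext K κ (D.obj j) ?_, fun g hg => hom_ext K κ c.pt ?_⟩
    · change (post K κ ((func K κ).map (c.ι.app j) ≫ descHom K κ c.pt ψ)).comp _ = _
      exact (post_map_comp K κ (c.ι.app j) (descHom K κ c.pt ψ)).symm.trans
        ((congrArg (fun t : c.pt.obj →ₗ[A] _ => t.comp (c.ι.app j).hom.hom) (post_descHom K κ c.pt ψ)).trans (hψ j))
    · refine (huniq _ fun j => ?_).trans (post_descHom K κ c.pt ψ).symm
      exact (post_map_comp K κ (c.ι.app j) g).trans
        (congrArg (fun g => (post K κ g).comp (η K κ (D.obj j))) (hg j))⟩⟩⟩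

instance : PreservesFiniteColimits (func K κ) := ⟨fun _ _ _ => inferInstance⟩

/-- The tautological map `A → Hom(K, K)`. -/
def act : (unit A).obj →ₗ[A] HomK K κ K where
  toFun a := κ a
  map_add' a b := map_add κ a b
  map_smul' a b := by
    change κ (a * b) = κ a ≫ κ b
    rw [mul_comm, map_mul, End.mul_def]

/-- The value on `A`. -/
noncomputable def unitIso : (func K κ).obj (unit A) ≅ K where
  hom := descHom K κ (unit A) (act K κ)
  inv := (η K κ (unit A) (1 : A) : K ⟶ obj K κ (unit A))
  hom_inv_id := hom_ext K κ (unit A) (LinearMap.ext fun (a : A) => by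
    change (η K κ (unit A) a : K ⟶ obj K κ (unit A)) ≫ descHom K κ (unit A) (act K κ) ≫
      (η K κ (unit A) (1 : A) : K ⟶ obj K κ (unit A)) = (η K κ (unit A) a : K ⟶ obj K κ (unit A)) ≫ 𝟙 _
    have h : (η K κ (unit A) a : K ⟶ obj K κ (unit A)) ≫ descHom K κ (unit A) (act K κ) = κ a :=
      LinearMap.congr_fun (post_descHom K κ (unit A) (act K κ)) a
    rw [Category.comp_id, ← Category.assoc, h]
    exact ((η K κ (unit A)).map_smul a (1 : A)).symm.trans (congrArg (η K κ (unit A)) (mul_one a)))
  inv_hom_id := by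
    have h := LinearMap.congr_fun (post_descHom K κ (unit A) (act K κ)) (1 : A)
    exact h.trans (map_one κ)

theorem map_lsmul (a : A) :
    (func K κ).map (ObjectProperty.homMk (ModuleCat.ofHom (LinearMap.lsmul A A a)) : unit A ⟶ unit A) ≫ (unitIso K κ).hom =
      (unitIso K κ).hom ≫ κ a :=
  hom_ext K κ (unit A) (LinearMap.ext fun (b : A) => by
    have h : ∀ c : A, (η K κ (unit A) c : K ⟶ obj K κ (unit A)) ≫ descHom K κ (unit A) (act K κ) = κ c :=
      fun c => LinearMap.congr_fun (post_descHom K κ (unit A) (act K κ)) c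
    have hm : (η K κ (unit A) b : K ⟶ obj K κ (unit A)) ≫
        (func K κ).map (ObjectProperty.homMk (ModuleCat.ofHom (LinearMap.lsmul A A a)) : unit A ⟶ unit A) =
        η K κ (unit A) (a * b) :=
      LinearMap.congr_fun (post_map K κ (ObjectProperty.homMk (ModuleCat.ofHom (LinearMap.lsmul A A a)) : unit A ⟶ unit A)) b
    refine ((Category.assoc _ _ _).symm.trans ?_).trans (((congrArg (· ≫ κ a) (h b)).symm).trans (Category.assoc _ _ _))
    refine (congrArg (fun g => g ≫ descHom K κ (unit A) (act K κ)) hm).trans ((h (a * b)).trans ?_)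
    rw [map_mul, End.mul_def])

end Corep

end Groth.Agent.H6FunMor
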