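import Groth.Agent.H6FunMor.FP

/-!
# Right exact functors on finitely presented modules are determined by their value on the ring
-/

universe v' u' u

open CategoryTheory CategoryTheory.Limits

namespace Groth.Agent.H6FunMor

variable {A : Type u} [CommRing A]

instance {J : Type} [SmallCategory J] [FinCategory J] : HasColimitsOfShape J (FP A) :=
  hasColimitsOfShape_of_closedUnderColimits _ _

instance : HasFiniteColimits (FP A) := ⟨fun _ _ _ => inferInstance⟩

/-- The morphism `A → M` sending `1` to `m`. -/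
def toSpan (M : FP A) (m : M.obj) : unit A ⟶ M :=
  ObjectProperty.homMk (ModuleCat.ofHom (LinearMap.toSpanSingleton A M.obj m))

/-- Multiplication by `a`. -/
def mulHom (a : A) : unit A ⟶ unit A := ObjectProperty.homMk (ModuleCat.ofHom (LinearMap.lsmul A A a))

theorem ext_lin {M N : FP A} {f g : M ⟶ N} (h : ∀ x, f.hom.hom x = g.hom.hom x) : f = g :=
  ObjectProperty.hom_ext _ (ModuleCat.hom_ext (LinearMap.ext h))

theorem toSpan_comp {M N : FP A} (m : M.obj) (h : M ⟶ N) : toSpan M m ≫ h = toSpan N (h.hom.hom m) :=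
  ext_lin fun (a : A) => h.hom.hom.map_smul a m

theorem toSpan_add (M : FP A) (m m' : M.obj) : toSpan M (m + m') = toSpan M m + toSpan M m' :=
  ext_lin fun (a : A) => smul_add a m m'

theorem toSpan_smul (M : FP A) (a : A) (m : M.obj) : toSpan M (a • m) = mulHom a ≫ toSpan M m :=
  ext_lin fun (b : A) => (smul_smul b a m).trans (congrArg (· • m) (mul_comm b a))

theorem mulHom_eq (a : A) : toSpan (unit A) a = mulHom a :=
  ext_lin fun (b : A) => mul_comm b a

theorem mulHom_one : mulHom (1 : A) = 𝟙 (unit A) := ext_lin fun (b : A) => one_mul b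

theorem mulHom_mul (a b : A) : mulHom (a * b) = mulHom b ≫ mulHom a :=
  ext_lin fun (c : A) => mul_assoc a b c

theorem mulHom_add (a b : A) : mulHom (a + b) = mulHom a + mulHom b :=
  ext_lin fun (c : A) => add_mul a b c

theorem epi_of_surjective {M N : FP A} {f : M ⟶ N} (hf : Function.Surjective f.hom.hom) : Epi f :=
  ⟨fun g g' e => ext_lin fun x => by
    obtain ⟨y, rfl⟩ := hf x
    exact congrArg (fun t => t.hom.hom y) e⟩

theorem exists_cover (M : FP A) :
    ∃ (n : ℕ) (π : (∐ fun _ : Fin n => unit A) ⟶ M), Function.Surjective π.hom.hom := by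
  obtain ⟨n, p, hp⟩ := Module.Finite.exists_fin' A M.obj
  let π : (∐ fun _ : Fin n => unit A) ⟶ M := Sigma.desc fun i => toSpan M (p (Pi.basisFun A (Fin n) i))
  refine ⟨n, π, LinearMap.range_eq_top.1 (eq_top_iff.2 fun x _ => ?_)⟩
  obtain ⟨v, rfl⟩ := hp x
  rw [← (Pi.basisFun A (Fin n)).sum_repr v, map_sum]
  refine Submodule.sum_mem _ fun i _ => ?_
  rw [map_smul]
  refine Submodule.smul_mem _ _ ⟨(Sigma.ι (fun _ : Fin n => unit A) i).hom.hom (1 : A), ?_⟩
  exact (congrArg (fun t => t.hom.hom (1 : A))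
    (Sigma.ι_desc (fun i => toSpan M (p (Pi.basisFun A (Fin n) i))) i)).trans (one_smul A _)

theorem exists_presentation (M : FP A) :
    ∃ (m n : ℕ) (d : (∐ fun _ : Fin m => unit A) ⟶ ∐ fun _ : Fin n => unit A)
      (π : (∐ fun _ : Fin n => unit A) ⟶ M) (w : d ≫ π = 0), Nonempty (IsColimit (CokernelCofork.ofπ π w)) := by
  obtain ⟨n, π, hπ⟩ := exists_cover M
  obtain ⟨m, r, hr⟩ := Submodule.fg_iff_exists_fin_generating_family.1
    (Module.FinitePresentation.fg_ker π.hom.hom hπ)
  let d : (∐ fun _ : Fin m => unit A) ⟶ ∐ fun _ : Fin n => unit A := Sigma.desc fun i => toSpan _ (r i)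
  have w : d ≫ π = 0 := Sigma.hom_ext _ _ fun i => by
    rw [Sigma.ι_desc_assoc, comp_zero, toSpan_comp,
      show π.hom.hom (r i) = 0 from (hr ▸ Submodule.subset_span ⟨i, rfl⟩ : r i ∈ LinearMap.ker π.hom.hom)]
    exact ext_lin fun a => smul_zero a
  have hker : ∀ {N : FP A} (g : (∐ fun _ : Fin n => unit A) ⟶ N), d ≫ g = 0 →
      LinearMap.ker π.hom.hom ≤ LinearMap.ker g.hom.hom := fun {N} g hg => by
    rw [← hr, Submodule.span_le]
    rintro _ ⟨i, rfl⟩
    have h1 := congrArg (fun t => Sigma.ι (fun _ : Fin m => unit A) i ≫ t) hg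
    simp only [d, Sigma.ι_desc_assoc, comp_zero, toSpan_comp] at h1
    exact (one_smul A _).symm.trans (congrArg (fun t => t.hom.hom (1 : A)) h1)
  haveI := epi_of_surjective hπ
  refine ⟨m, n, d, π, w, ⟨CokernelCofork.IsColimit.ofπ π w
    (fun g hg => ObjectProperty.homMk (ModuleCat.ofHom (((LinearMap.ker π.hom.hom).liftQ g.hom.hom (hker g hg)).comp
      (π.hom.hom.quotKerEquivOfSurjective hπ).symm.toLinearMap)))
    (fun g hg => ext_lin fun x => ?_)
    (fun g hg t ht => (cancel_epi π).1 (ht.trans (ext_lin fun x => ?_).symm))⟩⟩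
  all_goals
    have e : (π.hom.hom.quotKerEquivOfSurjective hπ).symm (π.hom.hom x) = Submodule.Quotient.mk x := by
      rw [LinearEquiv.symm_apply_eq]
      rfl
    exact congrArg ((LinearMap.ker π.hom.hom).liftQ g.hom.hom (hker g hg)) e

variable {B : Type u'} [Category.{v'} B]

theorem isIso_app_of_isColimit {C : Type*} [Category C] {J : Type} [SmallCategory J] {G F : C ⥤ B} (θ : G ⟶ F)
    {D : J ⥤ C} [PreservesColimit D G] [PreservesColimit D F] {c : Cocone D} (hc : IsColimit c)
    (h : ∀ j, IsIso (θ.app (D.obj j))) : IsIso (θ.app c.pt) := by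
  haveI := h
  haveI : ∀ j, IsIso ((Functor.whiskerLeft D θ).app j) := h
  haveI := NatIso.isIso_of_isIso_app (Functor.whiskerLeft D θ)
  have : θ.app c.pt = ((isColimitOfPreserves G hc).coconePointsIsoOfNatIso (isColimitOfPreserves F hc)
      (asIso (Functor.whiskerLeft D θ))).hom :=
    (isColimitOfPreserves G hc).hom_ext fun j => by
      rw [IsColimit.comp_coconePointsIsoOfNatIso_hom]
      exact θ.naturality (c.ι.app j)
  rw [this]
  infer_instance

theorem isIso_app_of_unit {G F : FP A ⥤ B} [PreservesFiniteColimits G] [PreservesFiniteColimits F] (θ : G ⟶ F)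
    (h : IsIso (θ.app (unit A))) (M : FP A) : IsIso (θ.app M) := by
  have hsum : ∀ n, IsIso (θ.app (∐ fun _ : Fin n => unit A)) := fun n =>
    isIso_app_of_isColimit θ (colimit.isColimit (Discrete.functor fun _ : Fin n => unit A)) fun _ => h
  obtain ⟨m, n, d, π, w, ⟨hc⟩⟩ := exists_presentation M
  exact isIso_app_of_isColimit θ hc fun j => by cases j <;> exact hsum _

theorem app_eq_of_unit {G F : FP A ⥤ B} [PreservesFiniteColimits G] (t t' : G ⟶ F)
    (h : t.app (unit A) = t'.app (unit A)) : t = t' := by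
  ext M
  obtain ⟨n, π, hπ⟩ := exists_cover M
  haveI := epi_of_surjective hπ
  rw [← cancel_epi (G.map π), t.naturality, t'.naturality]
  congr 1
  refine (isColimitOfPreserves G (colimit.isColimit (Discrete.functor fun _ : Fin n => unit A))).hom_ext fun j => ?_
  exact (t.naturality _).trans ((congrArg (· ≫ _) h).trans (t'.naturality _).symm)

section Preadditive

variable [Preadditive B] [HasFiniteBiproducts B] [HasCokernels B] (F : FP A ⥤ B) [PreservesFiniteColimits F]

include F in
theorem additive : F.Additive := by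
  haveI : HasFiniteCoproducts (FP A) := ⟨fun _ => inferInstance⟩
  haveI : HasFiniteBiproducts (FP A) := HasFiniteBiproducts.of_hasFiniteCoproducts
  haveI : HasBinaryBiproducts (FP A) := hasBinaryBiproducts_of_finite_biproducts _
  haveI : HasZeroObject (FP A) := hasZeroObject_of_hasInitial_object
  haveI : HasZeroObject B := hasZeroObject_of_hasFiniteBiproducts _
  haveI : F.PreservesZeroMorphisms := inferInstance
  haveI := preservesBinaryBiproducts_of_preservesBinaryCoproducts F
  exact Functor.additive_of_preservesBinaryBiproducts F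

/-- The action of `A` on `F(A)`. -/
noncomputable def kappa : A →+* End (F.obj (unit A)) where
  toFun a := F.map (mulHom a)
  map_one' := by rw [mulHom_one, F.map_id]; rfl
  map_mul' a b := by rw [mulHom_mul, F.map_comp]; rfl
  map_zero' := by
    haveI := additive F
    exact (congrArg F.map (ext_lin fun (c : A) => zero_mul c : mulHom (0 : A) = 0)).trans (F.map_zero _ _)
  map_add' a b := by
    haveI := additive F
    rw [mulHom_add, F.map_add]

variable (F' : FP A ⥤ B) [PreservesFiniteColimits F'] (φ : F.obj (unit A) ⟶ F'.obj (unit A))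
  (hφ : ∀ a : A, F.map (mulHom a) ≫ φ = φ ≫ F'.map (mulHom a))

/-- The family `m ↦ φ ≫ F'(1 ↦ m)`. -/
noncomputable def ev (M : FP A) : M.obj →ₗ[A] HomK (F.obj (unit A)) (kappa F) (F'.obj M) where
  toFun m := φ ≫ F'.map (toSpan M m)
  map_add' m m' := by
    haveI := additive F'
    change φ ≫ F'.map (toSpan M (m + m')) = _
    rw [toSpan_add, F'.map_add, Preadditive.comp_add]
    rfl
  map_smul' a m := by
    change φ ≫ F'.map (toSpan M (a • m)) = F.map (mulHom a) ≫ φ ≫ F'.map (toSpan M m)
    rw [toSpan_smul, F'.map_comp, ← Category.assoc, ← hφ a, Category.assoc]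

/-- The comparison out of the functor with value `F(A)`. -/
noncomputable def compare : func (F.obj (unit A)) (kappa F) ⟶ F' where
  app M := descHom _ _ M (ev F F' φ hφ M)
  naturality M N h := hom_ext _ _ M ((post_map_comp _ _ h (descHom _ _ N (ev F F' φ hφ N))).symm.trans (by
    refine (congrArg (fun t => LinearMap.comp t h.hom.hom) (post_descHom _ _ N (ev F F' φ hφ N))).trans ?_
    refine LinearMap.ext fun m => ?_
    have hm := LinearMap.congr_fun (post_descHom _ _ M (ev F F' φ hφ M)) m
    refine Eq.trans ?_ (Category.assoc (η (F.obj (unit A)) (kappa F) M m : F.obj (unit A) ⟶ _)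
      (descHom _ _ M (ev F F' φ hφ M)) (F'.map h))
    refine Eq.trans ?_ (congrArg (fun t : F.obj (unit A) ⟶ _ => t ≫ F'.map h) hm).symm
    change φ ≫ F'.map (toSpan N (h.hom.hom m)) = (φ ≫ F'.map (toSpan M m)) ≫ F'.map h
    rw [Category.assoc, ← F'.map_comp, toSpan_comp]))

theorem compare_app_unit : (compare F F' φ hφ).app (unit A) = (unitIso (F.obj (unit A)) (kappa F)).hom ≫ φ := by
  rw [← Iso.inv_comp_eq]
  refine (LinearMap.congr_fun (post_descHom _ _ (unit A) (ev F F' φ hφ (unit A))) (1 : A)).trans ?_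
  change φ ≫ F'.map (toSpan (unit A) (1 : A)) = φ
  rw [mulHom_eq, mulHom_one, F'.map_id, Category.comp_id]

include hφ in
theorem exists_natTrans : ∃ t : F ⟶ F', t.app (unit A) = φ := by
  have hid : ∀ a : A, F.map (mulHom a) ≫ 𝟙 _ = 𝟙 _ ≫ F.map (mulHom a) := fun a => by simp
  let θ := compare F F (𝟙 _) hid
  have hθ : ∀ M, IsIso (θ.app M) := isIso_app_of_unit θ (by
    rw [compare_app_unit, Category.comp_id]
    infer_instance)
  haveI := hθ
  haveI := NatIso.isIso_of_isIso_app θ
  refine ⟨inv θ ≫ compare F F' φ hφ, ?_⟩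
  rw [NatTrans.comp_app, NatIso.isIso_inv_app, IsIso.inv_comp_eq, compare_app_unit, compare_app_unit,
    Category.comp_id]

end Preadditive

end Groth.Agent.H6FunMor
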